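import Cfsg.Agent.Lib.Transfer.Centric
import Cfsg.Agent.Lib.Transfer.AbelianHall
import Cfsg.Agent.Lib.CentralType.Step

/-!
# Groups whose non-abelian subgroups are self-normalizing

* `SN.sylow_comm` : in a simple group the Sylow subgroups are abelian.
* `SN.cent_comm` : in a simple group the centralizers of non-identity elements are abelian.
-/

set_option autoImplicit false
set_option linter.style.haveILetI false

namespace Cfsg.Agent.SelfNormNonab

open Subgroup
open scoped commutatorElement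

universe u

/-- Every non-abelian subgroup is self-normalizing. -/
def SN (G : Type u) [Group G] : Prop :=
  ∀ H : Subgroup G, ¬ IsMulCommutative H → Subgroup.normalizer (H : Set G) = H

variable {G : Type u} [Group G]

theorem mem_comm {H : Subgroup G} (hc : IsMulCommutative H) {a b : G} (ha : a ∈ H) (hb : b ∈ H) :
    a * b = b * a :=
  congrArg Subtype.val (hc.is_comm.comm ⟨a, ha⟩ ⟨b, hb⟩)

variable (h : SN G)
include h

theorem SN.le_of_normalizes {H : Subgroup G} (hH : ¬ IsMulCommutative H) {g : G}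
    (hg : g ∈ normalizer (H : Set G)) : g ∈ H := h H hH ▸ hg

theorem SN.sub (N : Subgroup G) : SN N := by
  intro H hH
  refine le_antisymm (fun g hg => ?_) le_normalizer
  have hH' : ¬ IsMulCommutative (H.map N.subtype) := fun hc => hH ⟨⟨fun a b => Subtype.ext (Subtype.ext
    (mem_comm hc (a := ((a : N) : G)) (b := ((b : N) : G)) ⟨a, a.2, rfl⟩ ⟨b, b.2, rfl⟩))⟩⟩
  obtain ⟨w, hw, he⟩ := h.le_of_normalizes hH' (g := (g : G))
    (le_normalizer_map N.subtype ⟨g, hg, rfl⟩)
  exact (Subtype.ext he : w = g) ▸ hw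

theorem SN.normal_comm {H : Subgroup G} [H.Normal] (hH : H ≠ ⊤) : IsMulCommutative H := by
  by_contra hc
  exact hH (by rw [← h H hc, normalizer_eq_top])

theorem SN.commutator_ne_top [Finite G] {R : Subgroup G} [R.Normal] (hR : IsMulCommutative R)
    {g : G} (hg : g ∉ centralizer (R : Set G)) : commutator G ≠ ⊤ := by
  intro htop
  set π := QuotientGroup.mk' R with hπ
  set C := centralizer (R : Set G) with hC
  have hRC : R ≤ C := fun a ha => mem_centralizer_iff.2 fun b hb =>
    congrArg Subtype.val (hR.is_comm.comm ⟨b, hb⟩ ⟨a, ha⟩)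
  have hcomap : (C.map π).comap π = C := by
    rw [comap_map_eq, hπ, QuotientGroup.ker_mk']
    exact sup_of_le_left hRC
  have hne : C.map π ≠ ⊤ := fun e => hg (by rw [← hcomap, e, comap_top]; exact mem_top _)
  obtain ⟨r, hr, hrd⟩ := Nat.exists_prime_and_dvd (n := (C.map π).index)
    (fun e => hne (index_eq_one.1 e))
  haveI := Fact.mk hr
  obtain ⟨T⟩ : Nonempty (Sylow r (G ⧸ R)) := inferInstance
  have hT : ¬ (T : Subgroup (G ⧸ R)) ≤ C.map π := fun e =>
    T.not_dvd_index (hrd.trans (index_dvd_of_le e))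
  obtain ⟨yb, hyT, hyC⟩ := SetLike.not_le_iff_exists.1 hT
  obtain ⟨y, rfl⟩ := QuotientGroup.mk'_surjective R yb
  have hy : y ∉ C := fun e => hyC ⟨y, e, rfl⟩
  -- the cyclic subgroup of the image of `y` is self-normalizing
  set H := (zpowers (π y)).comap π with hHdef
  have hHna : ¬ IsMulCommutative H := fun hc => hy (mem_centralizer_iff.2 fun b hb =>
    congrArg Subtype.val (hc.is_comm.comm
      ⟨b, show π b ∈ zpowers (π y) by
        rw [show π b = 1 from (QuotientGroup.eq_one_iff b).2 hb]; exact one_mem _⟩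
      ⟨y, mem_zpowers (π y)⟩))
  have hself : ∀ w, w ∈ normalizer (zpowers (π y) : Set (G ⧸ R)) → w ∈ zpowers (π y) := by
    intro w hw
    obtain ⟨v, rfl⟩ := QuotientGroup.mk'_surjective R w
    refine h.le_of_normalizes hHna (mem_normalizer_iff.2 fun a => ?_)
    show π a ∈ zpowers (π y) ↔ π (v * a * v⁻¹) ∈ zpowers (π y)
    rw [map_mul, map_mul, map_inv]
    exact mem_normalizer_iff.1 hw (π a)
  have hTeq : zpowers (π y) = (T : Subgroup (G ⧸ R)) := by
    have hle : zpowers (π y) ≤ (T : Subgroup (G ⧸ R)) := zpowers_le.2 hyT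
    refine le_antisymm hle ?_
    haveI : Group.IsNilpotent (T : Subgroup (G ⧸ R)) := T.2.isNilpotent
    have htop : (zpowers (π y)).subgroupOf (T : Subgroup (G ⧸ R)) = ⊤ := by
      by_contra e
      obtain ⟨w, hw, hwn⟩ := SetLike.exists_of_lt
        (normalizerCondition_of_isNilpotent _ (lt_top_iff_ne_top.2 e))
      refine hwn (hself _ (mem_normalizer_iff.2 fun a => ?_))
      constructor
      · intro ha
        exact ((mem_normalizer_iff.1 hw ⟨a, hle ha⟩).1 ha :)
      · intro ha
        have haT : a ∈ (T : Subgroup (G ⧸ R)) := by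
          have := mul_mem (mul_mem (inv_mem w.2) (hle ha)) w.2
          simpa [mul_assoc] using this
        exact ((mem_normalizer_iff.1 hw ⟨a, haT⟩).2 ha :)
    exact subgroupOf_eq_top.1 htop
  have hN : normalizer ((T : Subgroup (G ⧸ R)) : Set (G ⧸ R)) ≤ centralizer (T : Set (G ⧸ R)) := by
    intro w hw
    rw [← hTeq] at hw
    have hw' := hself w hw
    refine mem_centralizer_iff.2 fun b hb => ?_
    have hb' : b ∈ zpowers (π y) := hTeq ▸ hb
    obtain ⟨i, rfl⟩ := hw'
    obtain ⟨j, rfl⟩ := hb'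
    exact ((Commute.refl (π y)).zpow_zpow j i).eq
  have htriv : ∀ w, MonoidHom.transferSylow T hN w = 1 := by
    intro w
    obtain ⟨v, rfl⟩ := QuotientGroup.mk'_surjective R w
    have hab : ∀ a b : G, MonoidHom.transferSylow T hN (π (a * b)) = MonoidHom.transferSylow T hN (π (b * a)) := by
      intro a b
      rw [map_mul, map_mul, map_mul, map_mul]
      apply Subtype.ext
      have h1 := mem_centralizer_iff.1 (hN (le_normalizer (MonoidHom.transferSylow T hN (π b)).2))
        _ (MonoidHom.transferSylow T hN (π a)).2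
      exact h1
    have hle : commutator G ≤ ((MonoidHom.transferSylow T hN).comp π).ker := by
      rw [_root_.commutator_def, commutator_le]
      intro a _ b _
      rw [MonoidHom.mem_ker, MonoidHom.comp_apply, show ⁅a, b⁆ = a * b * (b * a)⁻¹ by
        rw [commutatorElement_def]; group, map_mul, map_inv, map_mul, map_inv, hab, mul_inv_cancel]
    exact hle (htop ▸ mem_top v)
  have h1 := MonoidHom.ker_transferSylow_isComplement' T hN
  rw [show (MonoidHom.transferSylow T hN).ker = ⊤ from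
    eq_top_iff.2 fun w _ => MonoidHom.mem_ker.2 (htriv w), isComplement'_top_left] at h1
  exact hyC (by rw [h1, mem_bot] at hyT; rw [hyT]; exact one_mem _)

theorem SN.centralizes_of_coprime [Finite G] {p : ℕ} [hp : Fact p.Prime] {S : Subgroup G}
    (hS : IsPGroup p S) (hSna : ¬ IsMulCommutative S) {R : Subgroup G} [R.Normal] (hR : IsMulCommutative R)
    (hRp : IsPGroup p R) {y : G} (hy : Nat.Coprime (orderOf y) p) :
    y ∈ centralizer (R : Set G) := by
  by_contra hyC
  have hne := h.commutator_ne_top hR hyC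
  obtain ⟨M, hM, hle⟩ := (eq_top_or_exists_le_coatom (commutator G)).resolve_left hne
  haveI hMn : M.Normal := Subgroup.Normal.mk fun m hm g => by
    rw [show g * m * g⁻¹ = (g * m * g⁻¹ * m⁻¹) * m by group]
    exact mul_mem (hle (commutator_mem_commutator (mem_top g) (mem_top m))) hm
  obtain ⟨N, hNn, r, hr, hNr⟩ := CentralType.exists_normal_prime_index M hM hle
  haveI := hNn
  have hNab := h.normal_comm (H := N) (fun e => hr.one_lt.ne' (by rw [← hNr, e, index_top]))
  haveI : N.FiniteIndex := ⟨by rw [hNr]; exact hr.ne_zero⟩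
  have hmem : ∀ g : G, Nat.Coprime (orderOf g) r → g ∈ N := fun g hg => by
    obtain ⟨k, hk⟩ := exists_pow_eq_self_of_coprime hg.symm
    rw [← hk]
    exact pow_mem (hNr ▸ N.pow_index_mem g) k
  have hrp : r = p := by
    by_contra hrp
    refine hSna ⟨⟨fun a b => Subtype.ext ?_⟩⟩
    have : ∀ s : S, (s : G) ∈ N := fun s => hmem _ (by
      obtain ⟨k, hk⟩ := IsPGroup.iff_orderOf.1 hS s
      rw [Subgroup.orderOf_coe, hk]
      exact Nat.Coprime.pow_left k ((Nat.coprime_primes hp.out hr).2 (Ne.symm hrp)))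
    exact mem_comm hNab (this a) (this b)
  have hyN : y ∈ N := hmem y (hrp ▸ hy)
  refine hyC (mem_centralizer_iff.2 fun a ha => ?_)
  set c := a⁻¹ * (y * a * y⁻¹) with hc
  have hcR : c ∈ R := mul_mem (inv_mem ha) ((inferInstance : R.Normal).conj_mem a ha y)
  have hcN : c ∈ N := by
    rw [hc, show a⁻¹ * (y * a * y⁻¹) = (a⁻¹ * y * a⁻¹⁻¹) * y⁻¹ by group]
    exact mul_mem (hNn.conj_mem y hyN a⁻¹) (inv_mem hyN)
  have hcy : y * c = c * y := congrArg Subtype.val (hNab.is_comm.comm ⟨y, hyN⟩ ⟨c, hcN⟩)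
  have hk : ∀ k : ℕ, y ^ k * a * (y ^ k)⁻¹ = a * c ^ k := by
    intro k
    induction k with
    | zero => simp
    | succ k ih =>
      calc y ^ (k + 1) * a * (y ^ (k + 1))⁻¹ = y * (y ^ k * a * (y ^ k)⁻¹) * y⁻¹ := by
            rw [pow_succ']; group
        _ = y * a * y⁻¹ * (y * c ^ k * y⁻¹) := by rw [ih]; group
        _ = a * c * c ^ k := by
            rw [(Commute.pow_right (hcy : Commute y c) k).eq, mul_inv_cancel_right, hc,
              mul_inv_cancel_left]
        _ = a * c ^ (k + 1) := by rw [mul_assoc, ← pow_succ']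
  have h1 := hk (orderOf y)
  rw [pow_orderOf_eq_one, one_mul, inv_one, mul_one, left_eq_mul] at h1
  obtain ⟨j, hj⟩ := IsPGroup.iff_orderOf.1 hRp ⟨c, hcR⟩
  rw [Subgroup.orderOf_mk] at hj
  have hc1 : c = 1 := by
    refine orderOf_eq_one_iff.1 ?_
    exact Nat.eq_one_of_dvd_coprimes (hy.pow_right j) (orderOf_dvd_of_pow_eq_one h1) hj.dvd
  rw [hc, inv_mul_eq_one, eq_mul_inv_iff_mul_eq] at hc1
  exact hc1

/-- In a simple group the Sylow subgroups are abelian. -/
theorem SN.sylow_comm [Finite G] [IsSimpleGroup G] (hna : ¬ IsMulCommutative G) {p : ℕ}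
    [hp : Fact p.Prime] (S : Sylow p G) : IsMulCommutative S := by
  by_contra hS
  have hN := h S hS
  haveI : Group.IsNilpotent (S : Subgroup G) := S.2.isNilpotent
  obtain ⟨P, K, hK, hKP⟩ := Transfer.hasNormalPComplement_of_centric S (by
    intro R hR y hy hco
    obtain ⟨hRS, hRC⟩ := hR
    rcases eq_or_lt_of_le hRS with e | hlt
    · have hyS : y ∈ (S : Subgroup G) := by rw [← hN]; rw [e] at hy; exact hy
      obtain ⟨k, hk⟩ := IsPGroup.iff_orderOf.1 S.2 ⟨y, hyS⟩
      rw [Subgroup.orderOf_mk] at hk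
      rw [orderOf_eq_one_iff.1 (Nat.eq_one_of_dvd_coprimes (hco.pow_right k) dvd_rfl hk.dvd)]
      exact one_mem _
    have hsub : R.subgroupOf (S : Subgroup G) ≠ ⊤ := fun e => hlt.not_ge (subgroupOf_eq_top.1 e)
    obtain ⟨w, hw, hwR⟩ := SetLike.exists_of_lt
      (normalizerCondition_of_isNilpotent _ (lt_top_iff_ne_top.2 hsub))
    set T := (S : Subgroup G) ⊓ normalizer (R : Set G) with hT
    have hwT : (w : G) ∈ T := ⟨w.2, mem_normalizer_iff.2 fun a => by
      constructor
      · intro ha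
        exact ((mem_normalizer_iff.1 hw ⟨a, hRS ha⟩).1 ha :)
      · intro ha
        have haS : a ∈ (S : Subgroup G) := by
          have := mul_mem (mul_mem (inv_mem w.2) (hRS ha)) w.2
          simpa [mul_assoc] using this
        exact ((mem_normalizer_iff.1 hw ⟨a, haS⟩).2 ha :)⟩
    have hRab : IsMulCommutative R := by
      by_contra hc
      exact hwR (h.le_of_normalizes hc hwT.2)
    have hTna : ¬ IsMulCommutative T := fun hc => hwR (hRC ⟨w.2, mem_centralizer_iff.2 fun a ha =>
      congrArg Subtype.val (hc.is_comm.comm ⟨a, hRS ha, le_normalizer ha⟩ ⟨w, hwT⟩)⟩)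
    set N := normalizer (R : Set G) with hNdef
    have hy' := (h.sub N).centralizes_of_coprime (S := T.subgroupOf N)
      ((S.2.to_le inf_le_left).comap_of_injective N.subtype N.subtype_injective)
      (fun hc => hTna ⟨⟨fun a b => Subtype.ext (congrArg (fun v : (T.subgroupOf N) => ((v : N) : G))
        (hc.is_comm.comm ⟨⟨a, a.2.2⟩, a.2⟩ ⟨⟨b, b.2.2⟩, b.2⟩))⟩⟩)
      (R := R.subgroupOf N)
      ⟨⟨fun a b => Subtype.ext (Subtype.ext
        (mem_comm hRab (a := ((a : N) : G)) (b := ((b : N) : G)) a.2 b.2))⟩⟩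
      ((S.2.to_le hRS).comap_of_injective N.subtype N.subtype_injective)
      (y := ⟨y, hy⟩) (by rwa [Subgroup.orderOf_mk])
    exact mem_centralizer_iff.2 fun a ha =>
      congrArg Subtype.val (mem_centralizer_iff.1 hy' ⟨a, le_normalizer ha⟩ ha))
  rcases hK.eq_bot_or_eq_top with e | e
  · rw [e, isComplement'_bot_left] at hKP
    refine hS ⟨⟨fun a b => ?_⟩⟩
    exfalso
    haveI : Group.IsNilpotent G := by
      have := P.2.isNilpotent
      rw [hKP] at this
      exact nilpotent_of_mulEquiv Subgroup.topEquiv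
    exact hna ⟨⟨fun a b => IsSimpleGroup.comm_iff_isSolvable.2 inferInstance a b⟩⟩
  · rw [e, isComplement'_top_left] at hKP
    refine hS ⟨⟨fun a b => ?_⟩⟩
    obtain ⟨g, hg⟩ := MulAction.exists_smul_eq G P S
    have hbot : (S : Subgroup G) = ⊥ := by
      rw [← hg, Sylow.coe_subgroup_smul, hKP, Subgroup.smul_bot]
    have ha : (a : G) = 1 := mem_bot.1 (hbot.le a.2)
    have hb : (b : G) = 1 := mem_bot.1 (hbot.le b.2)
    exact Subtype.ext (by simp [ha, hb])

/-- The structure of a non-abelian group with non-trivial centre. -/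
theorem SN.center_structure [Finite G] (hab : ∀ p : ℕ, p.Prime → ∀ P : Sylow p G, IsMulCommutative P)
    (hna : ¬ IsMulCommutative G) {z : G} (hz : z ∈ center G) (hz1 : z ≠ 1) :
    ∃ (p : ℕ) (_ : p.Prime) (x : G), (∃ k, orderOf x = p ^ k) ∧ x ≠ 1 ∧ z ∈ zpowers x ∧
      (∀ w, Commute w x → w ∈ zpowers x) ∧
      (∀ g ∈ normalizer (zpowers x : Set G), Commute g x) := by
  have hDZ := Transfer.commutator_inf_center_eq_bot hab
  set D := commutator G with hD
  have hne : D ≠ ⊤ := fun e => hz1 (by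
    rw [e, top_inf_eq] at hDZ
    exact mem_bot.1 (hDZ ▸ hz))
  obtain ⟨M, hM, hle⟩ := (eq_top_or_exists_le_coatom D).resolve_left hne
  obtain ⟨N, hNn, p, hp, hNp⟩ := CentralType.exists_normal_prime_index M hM hle
  haveI := hNn
  haveI := Fact.mk hp
  haveI : N.FiniteIndex := ⟨by rw [hNp]; exact hp.ne_zero⟩
  have hNab := h.normal_comm (H := N) (fun e => hp.one_lt.ne' (by rw [← hNp, e, index_top]))
  have hDN : D ≤ N := by
    rw [hD, _root_.commutator_def, commutator_le]
    intro a _ b _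
    have : IsCyclic (G ⧸ N) := isCyclic_of_prime_card (p := p) (by rw [← index_eq_card, hNp])
    refine (QuotientGroup.eq_one_iff _).1 ?_
    show QuotientGroup.mk' N ⁅a, b⁆ = 1
    rw [map_commutatorElement, commutatorElement_eq_one_iff_commute]
    exact (IsCyclic.isMulCommutative (α := G ⧸ N)).is_comm.comm _ _
  obtain ⟨g, hg⟩ : ∃ g, g ∉ N := by
    by_contra e
    push Not at e
    exact hp.one_lt.ne' (by rw [← hNp, show N = ⊤ from eq_top_iff.2 (fun a _ => e a), index_top])
  obtain ⟨x, y, hgxy, -, -, ⟨k, hk⟩, hyco⟩ := Transfer.exists_pPart_mul (p := p) g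
  have hxN : x ∉ N := fun hx => hg (by
    rw [hgxy]
    obtain ⟨i, hi⟩ := exists_pow_eq_self_of_coprime hyco.symm
    refine mul_mem hx ?_
    rw [← hi]
    exact pow_mem (hNp ▸ N.pow_index_mem y) i)
  -- `N` and `x` generate
  have hgen : ∀ a : G, (∀ n ∈ N, Commute a n) → Commute a x → a ∈ center G := by
    intro a hn hx
    have hsup : N ⊔ zpowers x = ⊤ := by
      have hd := index_dvd_of_le (le_sup_left : N ≤ N ⊔ zpowers x)
      rw [hNp] at hd
      rcases (Nat.dvd_prime hp).1 hd with e | e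
      · exact index_eq_one.1 e
      · exfalso
        have h2 := relIndex_mul_index (le_sup_left : N ≤ N ⊔ zpowers x)
        rw [hNp, e] at h2
        have h3 : N.relIndex (N ⊔ zpowers x) = 1 := (mul_eq_right₀ hp.ne_zero).1 h2
        exact hxN (relIndex_eq_one.1 h3 (mem_sup_right (mem_zpowers x)))
    refine mem_center_iff.2 fun b => ?_
    have hb : b ∈ N ⊔ zpowers x := hsup ▸ mem_top b
    obtain ⟨n, hn', w, ⟨i, rfl⟩, rfl⟩ := mem_sup_of_normal_left.1 hb
    exact ((hn n hn').mul_right (hx.zpow_right i)).eq.symm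
  have hDcent : ∀ d ∈ D, Commute d x → d = 1 := fun d hd hdx =>
    mem_bot.1 (hDZ ▸ (show d ∈ D ⊓ center G from ⟨hd, hgen d (fun n hn =>
      congrArg Subtype.val (hNab.is_comm.comm ⟨d, hDN hd⟩ ⟨n, hn⟩)) hdx⟩))
  -- `D` and `x` generate
  have hsupD : D ⊔ zpowers x = ⊤ := by
    by_contra e
    haveI : (D ⊔ zpowers x).Normal := Subgroup.Normal.mk fun m hm w => by
      rw [show w * m * w⁻¹ = (w * m * w⁻¹ * m⁻¹) * m by group]
      exact mul_mem (mem_sup_left (commutator_mem_commutator (mem_top w) (mem_top m))) hm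
    have hc := h.normal_comm e
    refine hna ⟨⟨fun a b => ?_⟩⟩
    have hbot : D = ⊥ := (Subgroup.eq_bot_iff_forall _).2 fun d hd => hDcent d hd
      (congrArg Subtype.val (hc.is_comm.comm ⟨d, mem_sup_left hd⟩ ⟨x, mem_sup_right (mem_zpowers x)⟩))
    have hab' : ⁅a, b⁆ ∈ D := commutator_mem_commutator (mem_top a) (mem_top b)
    rw [hbot, mem_bot, commutatorElement_eq_one_iff_commute] at hab'
    exact hab'.eq
  have hdec : ∀ w : G, ∃ d ∈ D, ∃ i : ℤ, w = d * x ^ i := fun w => by
    obtain ⟨d, hd, v, ⟨i, rfl⟩, hw⟩ := mem_sup_of_normal_left.1 (hsupD ▸ mem_top w : w ∈ D ⊔ zpowers x)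
    exact ⟨d, hd, i, hw.symm⟩
  have hcen : ∀ w, Commute w x → w ∈ zpowers x := by
    intro w hw
    obtain ⟨d, hd, i, rfl⟩ := hdec w
    have hdx : Commute d x := by
      have := hw.mul_left (((Commute.refl x).zpow_left i).inv_left)
      rwa [mul_inv_cancel_right] at this
    rw [hDcent d hd hdx, one_mul]
    exact zpow_mem (mem_zpowers x) i
  refine ⟨p, hp, x, ⟨k, hk⟩, fun e => hxN (e ▸ one_mem _), hcen z (mem_center_iff.1 hz x).symm, hcen, ?_⟩
  intro w hw
  obtain ⟨d, hd, i, rfl⟩ := hdec w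
  have hdn : d ∈ normalizer (zpowers x : Set G) := by
    have := mul_mem hw (inv_mem (le_normalizer (zpow_mem (mem_zpowers x) i)))
    rwa [mul_inv_cancel_right] at this
  have h1 : d * x * d⁻¹ * x⁻¹ ∈ zpowers x :=
    mul_mem ((mem_normalizer_iff.1 hdn x).1 (mem_zpowers x)) (inv_mem (mem_zpowers x))
  have h2 : d * x * d⁻¹ * x⁻¹ ∈ D := commutator_mem_commutator (mem_top d) (mem_top x)
  have h3 : d * x * d⁻¹ * x⁻¹ = 1 := hDcent _ h2 (by
    obtain ⟨j, hj⟩ := h1
    exact hj ▸ (Commute.refl x).zpow_left j)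
  rw [mul_inv_eq_one, mul_inv_eq_iff_eq_mul] at h3
  rw [hDcent d hd h3, one_mul]
  exact (Commute.refl x).zpow_left i

/-- In a simple group the centralizers are abelian. -/
theorem SN.cent_comm [Finite G] [IsSimpleGroup G] (hna : ¬ IsMulCommutative G) {z : G} (hz : z ≠ 1) :
    IsMulCommutative (centralizer ({z} : Set G)) := by
  by_contra hC
  set C := centralizer ({z} : Set G) with hCdef
  have hab : ∀ p : ℕ, p.Prime → ∀ P : Sylow p C, IsMulCommutative P := by
    intro p hp P
    haveI := Fact.mk hp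
    obtain ⟨Q, hQ⟩ := (P.2.map C.subtype).exists_le_sylow
    have := h.sylow_comm hna Q
    exact ⟨⟨fun a b => Subtype.ext (Subtype.ext
      (mem_comm this (a := ((a : C) : G)) (b := ((b : C) : G)) (hQ ⟨a, a.2, rfl⟩) (hQ ⟨b, b.2, rfl⟩)))⟩⟩
  have hzC : z ∈ C := mem_centralizer_singleton_iff.2 rfl
  obtain ⟨p, hp, x, ⟨k, hk⟩, hx1, ⟨i, hi⟩, hcen, hnor⟩ := (h.sub C).center_structure hab hC
    (z := ⟨z, hzC⟩) (mem_center_iff.2 fun w => Subtype.ext (mem_centralizer_singleton_iff.1 w.2))
    (fun e => hz (congrArg Subtype.val e))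
  haveI := Fact.mk hp
  have hzx : (x : G) ^ i = z := congrArg Subtype.val hi
  have hxp : IsPGroup p (zpowers (x : G)) := IsPGroup.of_card (n := k)
    (by rw [Nat.card_zpowers, Subgroup.orderOf_coe, hk])
  obtain ⟨S, hS⟩ := hxp.exists_le_sylow
  have hSab := h.sylow_comm hna S
  have hSC : ∀ w ∈ (S : Subgroup G), w ∈ C ∧ Commute w (x : G) := fun w hw => by
    have hwx : Commute w (x : G) :=
      congrArg Subtype.val (hSab.is_comm.comm ⟨w, hw⟩ ⟨x, hS (mem_zpowers _)⟩)
    exact ⟨mem_centralizer_singleton_iff.2 (hzx ▸ (hwx.zpow_right i).eq), hwx⟩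
  have hSeq : (S : Subgroup G) = zpowers (x : G) := le_antisymm (fun w hw => by
    obtain ⟨hwC, hwx⟩ := hSC w hw
    obtain ⟨j, hj⟩ := hcen ⟨w, hwC⟩ (Subtype.ext hwx)
    exact ⟨j, congrArg Subtype.val hj⟩) hS
  have hN : normalizer ((S : Subgroup G) : Set G) ≤ centralizer (S : Set G) := by
    intro g hg
    rw [hSeq] at hg
    -- `g` normalizes the subgroup generated by `z`, hence its centralizer
    obtain ⟨j, hj⟩ : g * x * g⁻¹ ∈ zpowers (x : G) := (mem_normalizer_iff.1 hg _).1 (mem_zpowers _)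
    have hgz : g * z * g⁻¹ = z ^ j := by
      rw [← hzx, ← conj_zpow, ← hj, ← zpow_mul, ← zpow_mul, mul_comm]
    have hgC : g ∈ C := by
      refine h.le_of_normalizes hC (inv_inv g ▸ inv_mem ?_)
      have key : ∀ w ∈ C, g⁻¹ * w * g ∈ C := by
        intro w hw
        refine mem_centralizer_singleton_iff.2 ?_
        have hcw : Commute w (z ^ j) := Commute.zpow_right (mem_centralizer_singleton_iff.1 hw) j
        rw [← hgz] at hcw
        calc g⁻¹ * w * g * z = g⁻¹ * (w * (g * z * g⁻¹)) * g := by group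
          _ = g⁻¹ * (g * z * g⁻¹ * w) * g := by rw [hcw.eq]
          _ = z * (g⁻¹ * w * g) := by group
      rw [← Transfer.map_conj_eq_iff_mem_normalizer]
      refine eq_of_le_of_card_ge ?_ (le_of_eq ?_)
      · rintro _ ⟨w, hw, rfl⟩
        simpa using key w hw
      · exact (Transfer.card_map_conj C g⁻¹).symm
    have hgn : (⟨g, hgC⟩ : C) ∈ normalizer (zpowers x : Set C) := mem_normalizer_iff.2 fun a => by
      have e : ∀ b : C, b ∈ zpowers x ↔ (b : G) ∈ zpowers (x : G) := fun b =>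
        ⟨fun ⟨m, hm⟩ => ⟨m, by rw [← hm]; rfl⟩, fun ⟨m, hm⟩ => ⟨m, Subtype.ext (by simpa using hm)⟩⟩
      rw [e, e]
      exact mem_normalizer_iff.1 hg a
    have hgx : Commute g (x : G) := congrArg Subtype.val (hnor _ hgn).eq
    refine mem_centralizer_iff.2 fun w hw => ?_
    obtain ⟨m, rfl⟩ := (hSeq ▸ hw : w ∈ zpowers (x : G))
    exact (hgx.zpow_right m).eq.symm
  have h1 := MonoidHom.ker_transferSylow_isComplement' S hN
  rcases (inferInstance : (MonoidHom.transferSylow S hN).ker.Normal).eq_bot_or_eq_top with e | e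
  · rw [e, isComplement'_bot_left] at h1
    exact hna ⟨⟨fun a b => congrArg Subtype.val
      (hSab.is_comm.comm ⟨a, h1 ▸ mem_top a⟩ ⟨b, h1 ▸ mem_top b⟩)⟩⟩
  · rw [e, isComplement'_top_left, hSeq, zpowers_eq_bot] at h1
    exact hx1 (Subtype.ext h1)

end Cfsg.Agent.SelfNormNonab
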