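import Cfsg.Agent.Lib.SelfNormNonab.Basic
import Cfsg.Agent.Lib.PSL2.Centralizers
import Cfsg.Agent.Lib.PSL2.Subgroups
import Cfsg.Agent.Lib.PSL2.Existence
import Cfsg.Agent.Lib.PSL2.Borel

/-!
# `PSL(2, 2^n)` and self-normalizing non-abelian subgroups

* `sn_of_prime` : if `2^n - 1` is prime every non-abelian subgroup is self-normalizing.
* `prime_of_sn` : the converse.
-/

set_option autoImplicit false
set_option linter.style.haveILetI false

namespace Cfsg.Agent.SelfNormNonab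

open Subgroup MulAction
open Cfsg.Agent.PSL2 (PSL2 Pt pinf)

variable {F : Type*} [Field F] [Finite F]

theorem gcd_eq_one {n : ℕ} (hn : 1 ≤ n) (hF : Nat.card F = 2 ^ n) :
    Nat.gcd 2 (Nat.card F - 1) = 1 := by
  refine (Nat.Prime.coprime_iff_not_dvd Nat.prime_two).2 fun ⟨k, hk⟩ => ?_
  have : 2 ∣ Nat.card F := hF ▸ dvd_pow_self 2 (by omega)
  obtain ⟨j, hj⟩ := this
  have := Nat.two_pow_pos n
  omega

theorem charP_two {n : ℕ} (hn : 1 ≤ n) (hF : Nat.card F = 2 ^ n) : CharP F 2 := by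
  haveI := Fintype.ofFinite F
  obtain ⟨p, hp⟩ := CharP.exists F
  haveI := hp
  obtain ⟨m, hm, hc⟩ := FiniteField.card F p
  rw [← Nat.card_eq_fintype_card, hF] at hc
  have : p = 2 := ((Nat.prime_dvd_prime_iff_eq Nat.prime_two hm).1
    (Nat.prime_two.dvd_of_dvd_pow (hc ▸ dvd_pow_self 2 (by omega)))).symm
  exact this ▸ hp

/-- The structure of a point stabilizer. -/
theorem borel_facts {n : ℕ} (hn : 2 ≤ n) (hF : Nat.card F = 2 ^ n) (P : Pt F) :
    ∃ ψ : stabilizer (PSL2 F) P →* Fˣ, Function.Surjective ψ ∧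
      (∀ e w, ψ e = 1 → ψ w = 1 → Commute e w) ∧
      (∀ e w, ψ e = 1 → e ≠ 1 → Commute w e → ψ w = 1) ∧ ∃ e, ψ e = 1 ∧ e ≠ 1 := by
  haveI := Fact.mk Nat.prime_two
  haveI := charP_two (by omega) hF
  obtain ⟨ψ, hψ⟩ := PSL2.exists_borel_hom 2 P
  let B := stabilizer (PSL2 F) P
  have hcomm : ∀ e w : B, ψ e = 1 → ψ w = 1 → Commute e w := by
    intro e w he hw
    have h1 : ∀ a : B, ψ a = 1 → a * a = 1 := fun a ha => Subtype.ext (by
      rw [Subgroup.coe_mul, ← sq]; exact (hψ a).1 ha)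
    have h2 := h1 (e * w) (by rw [map_mul, he, hw, mul_one])
    show e * w = w * e
    rw [← inv_eq_of_mul_eq_one_right h2, mul_inv_rev, inv_eq_of_mul_eq_one_right (h1 e he),
      inv_eq_of_mul_eq_one_right (h1 w hw)]
  set K := ψ.ker
  have hK2 : IsPGroup 2 K := fun a => ⟨1, by
    rw [pow_one]; exact Subtype.ext (Subtype.ext ((hψ a).1 a.2))⟩
  obtain ⟨a, ha⟩ := IsPGroup.iff_card.1 hK2
  have hcard : Nat.card K * Nat.card ψ.range = 2 ^ n * (2 ^ n - 1) := by
    have h := PSL2.card_borel_mul P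
    rw [gcd_eq_one (by omega) hF, one_mul, hF] at h
    rw [← h, ← Subgroup.index_ker, Subgroup.card_mul_index]
  have hr : Nat.card ψ.range ∣ 2 ^ n - 1 := by
    have h := Subgroup.card_subgroup_dvd_card ψ.range
    rwa [Nat.card_units, hF] at h
  have hrodd : ¬ 2 ∣ Nat.card ψ.range := fun h => by
    have h' := h.trans hr
    have h'' : 2 ∣ 2 ^ n := dvd_pow_self 2 (by omega)
    have := Nat.two_pow_pos n
    omega
  have hqK : 2 ^ n ∣ Nat.card K :=
    (((Nat.Prime.coprime_iff_not_dvd Nat.prime_two).2 hrodd).pow_left n).dvd_of_dvd_mul_right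
      (Dvd.intro _ hcard.symm)
  have hKne : 1 < Nat.card K :=
    lt_of_lt_of_le (Nat.one_lt_two_pow (by omega)) (Nat.le_of_dvd Nat.card_pos hqK)
  obtain ⟨e₀, he₀⟩ : ∃ e : B, ψ e = 1 ∧ e ≠ 1 := by
    haveI : Nontrivial K := Finite.one_lt_card_iff_nontrivial.1 hKne
    obtain ⟨e, he⟩ := exists_ne (1 : K)
    exact ⟨e, e.2, fun h => he (Subtype.ext h)⟩
  have hcent : ∀ e : B, ψ e = 1 → e ≠ 1 →
      K.map B.subtype ≤ centralizer {(e : PSL2 F)} ∧
        Nat.card (centralizer ({(e : PSL2 F)} : Set (PSL2 F))) = 2 ^ n := by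
    intro e he he1
    refine ⟨?_, ?_⟩
    · rintro _ ⟨w, hw, rfl⟩
      exact mem_centralizer_singleton_iff.2 (congrArg Subtype.val (hcomm w e hw he).eq)
    · rw [← hF]
      exact PSL2.card_centralizer_char 2 (orderOf_eq_prime ((hψ e).1 he)
        fun h => he1 (Subtype.ext h))
  have hKle : Nat.card K ≤ 2 ^ n := by
    obtain ⟨h1, h2⟩ := hcent e₀ he₀.1 he₀.2
    rw [← h2, Nat.card_congr (K.equivMapOfInjective B.subtype B.subtype_injective).toEquiv]
    exact Subgroup.card_le_of_le h1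
  have hKeq : Nat.card K = 2 ^ n := le_antisymm hKle (Nat.le_of_dvd Nat.card_pos hqK)
  refine ⟨ψ, ?_, hcomm, fun e w he he1 hw => ?_, e₀, he₀⟩
  · rw [← MonoidHom.range_eq_top]
    refine Subgroup.eq_top_of_card_eq _ ?_
    rw [Nat.card_units, hF]
    rw [hKeq] at hcard
    exact Nat.eq_of_mul_eq_mul_left (Nat.two_pow_pos n) hcard
  · obtain ⟨h1, h2⟩ := hcent e he he1
    have heq := Subgroup.eq_of_le_of_card_ge h1 (by
      rw [h2, ← hKeq, Nat.card_congr (K.equivMapOfInjective B.subtype B.subtype_injective).toEquiv])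
    have hwm : (w : PSL2 F) ∈ K.map B.subtype :=
      heq ▸ mem_centralizer_singleton_iff.2 (congrArg Subtype.val hw.eq)
    obtain ⟨v, hv, hvw⟩ := hwm
    exact (Subtype.ext hvw : v = w) ▸ hv

theorem dihedral_normal {n : ℕ} (hn : Odd n) {M : Subgroup (DihedralGroup n)} [M.Normal]
    (hM : ¬ IsMulCommutative M) : M = ⊤ := by
  obtain ⟨i, hi⟩ : ∃ i, DihedralGroup.sr i ∈ M := by
    by_contra hno
    push Not at hno
    refine hM ⟨⟨fun a b => ?_⟩⟩
    rcases a with ⟨a | a, ha⟩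
    · rcases b with ⟨b | b, hb⟩
      · exact Subtype.ext (by simp [DihedralGroup.r_mul_r, add_comm])
      · exact absurd hb (hno b)
    · exact absurd ha (hno a)
  have hu : IsUnit (2 : ZMod n) := by
    have := (ZMod.isUnit_iff_coprime 2 n).2 hn.coprime_two_left
    simpa using this
  have hsr : ∀ k, DihedralGroup.sr k ∈ M := by
    intro k
    obtain ⟨u, hu⟩ := hu
    have h := (inferInstance : M.Normal).conj_mem _ hi (DihedralGroup.r ((↑u⁻¹ : ZMod n) * (i - k)))
    rw [DihedralGroup.r_mul_sr, DihedralGroup.inv_r, DihedralGroup.sr_mul_r] at h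
    have e : i - (↑u⁻¹ : ZMod n) * (i - k) + -((↑u⁻¹ : ZMod n) * (i - k)) = k := by
      have h2 : (2 : ZMod n) * ((↑u⁻¹ : ZMod n) * (i - k)) = i - k := by
        rw [← hu, ← mul_assoc, Units.mul_inv, one_mul]
      linear_combination -h2
    rwa [e] at h
  refine eq_top_iff.2 fun a _ => ?_
  rcases a with a | a
  · have := mul_mem (hsr 0) (hsr a)
    rwa [DihedralGroup.sr_mul_sr, sub_zero] at this
  · exact hsr a

/-- A non-abelian subgroup of a point stabilizer is not normal in a larger one. -/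
theorem le_of_stabilizer {n : ℕ} (hn : 2 ≤ n) (hF : Nat.card F = 2 ^ n) (hl : (2 ^ n - 1).Prime)
    {P : Pt F} {H N : Subgroup (PSL2 F)} (hH : ¬ IsMulCommutative H) (hle : H ≤ N)
    (hN : N ≤ stabilizer (PSL2 F) P) (hnor : N ≤ normalizer (H : Set (PSL2 F))) : N ≤ H := by
  obtain ⟨ψ, -, hcomm, hcent, -⟩ := borel_facts hn hF P
  let B := stabilizer (PSL2 F) P
  obtain ⟨x, hxH, hx⟩ : ∃ x : B, (x : PSL2 F) ∈ H ∧ ψ x ≠ 1 := by
    by_contra hno
    push Not at hno
    exact hH ⟨⟨fun a b => Subtype.ext ((congrArg Subtype.val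
      (hcomm ⟨a, hN (hle a.2)⟩ ⟨b, hN (hle b.2)⟩ (hno _ a.2) (hno _ b.2)).eq) :)⟩⟩
  set A : Set B := {e | ψ e = 1 ∧ (e : PSL2 F) ∈ N}
  set A' : Set B := {e | ψ e = 1 ∧ (e : PSL2 F) ∈ H}
  have hA : A' = A := by
    refine Set.eq_of_subset_of_ncard_le (fun e he => ⟨he.1, hle he.2⟩) ?_ (Set.toFinite _)
    refine Set.ncard_le_ncard_of_injOn (fun e => e * x * e⁻¹ * x⁻¹) ?_ ?_ (Set.toFinite _)
    · intro e he
      refine ⟨by simp [he.1], ?_⟩
      exact mul_mem ((mem_normalizer_iff.1 (hnor he.2) (x : PSL2 F)).1 hxH) (inv_mem hxH)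
    · intro e he e' he' hee
      have h1 : e * x * e⁻¹ = e' * x * e'⁻¹ := mul_right_cancel hee
      have h2 : Commute x (e'⁻¹ * e) := by
        show x * (e'⁻¹ * e) = e'⁻¹ * e * x
        calc x * (e'⁻¹ * e) = e'⁻¹ * (e' * x * e'⁻¹) * e := by group
          _ = e'⁻¹ * (e * x * e⁻¹) * e := by rw [h1]
          _ = e'⁻¹ * e * x := by group
      by_contra hne
      exact hx (hcent (e'⁻¹ * e) x (by simp [he.1, he'.1])
        (fun h => hne (inv_mul_eq_one.1 h).symm) h2)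
  haveI : Fact (2 ^ n - 1).Prime := ⟨hl⟩
  intro z hz
  obtain ⟨i, hi⟩ : ψ ⟨z, hN hz⟩ ∈ zpowers (ψ x) :=
    mem_zpowers_of_prime_card (p := 2 ^ n - 1) (by rw [Nat.card_units, hF]) hx
  set e : B := (x ^ i)⁻¹ * ⟨z, hN hz⟩ with hedef
  have he : e ∈ A := ⟨by rw [hedef, map_mul, map_inv, map_zpow, ← hi]; exact inv_mul_cancel _,
    mul_mem (inv_mem (hle (by simpa using zpow_mem hxH i))) hz⟩
  rw [← hA] at he
  have := mul_mem (zpow_mem hxH i) he.2
  simpa [hedef] using this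

theorem sn_of_prime {n : ℕ} (hn : 2 ≤ n) (hF : Nat.card F = 2 ^ n) (hl : (2 ^ n - 1).Prime)
    (hS : IsSimpleGroup (PSL2 F)) : SN (PSL2 F) := by
  haveI := Fact.mk Nat.prime_two
  haveI := charP_two (by omega) hF
  intro H hH
  set N := normalizer (H : Set (PSL2 F)) with hNdef
  have hle : H ≤ N := le_normalizer
  refine le_antisymm ?_ hle
  have hnor : (H.subgroupOf N).Normal := normal_in_normalizer
  have hH' : ¬ IsMulCommutative (H.subgroupOf N) := fun hc => hH ⟨⟨fun a b => Subtype.ext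
    (congrArg Subtype.val (mem_comm hc (a := (⟨a, hle a.2⟩ : N)) (b := (⟨b, hle b.2⟩ : N)) a.2 b.2) :)⟩⟩
  have hNna : ¬ IsMulCommutative N := fun hc =>
    hH ⟨⟨fun a b => Subtype.ext (mem_comm hc (hle a.2) (hle b.2))⟩⟩
  rcases PSL2.psl_dickson 2 N with ⟨-, S, hS'⟩ | ⟨-, hc, -⟩ | ⟨m, -, hm2, -, -, -, ⟨e⟩⟩ | ⟨hodd, h⟩ |
    ⟨h, -⟩ | ⟨R, m, -, hR, h⟩
  · obtain ⟨P, hP⟩ := PSL2.normalizer_sylow_le 2 S
    exact le_of_stabilizer hn hF hl hH hle (hS'.trans hP) le_rfl
  · exact absurd (IsCyclic.isMulCommutative (α := N)) hNna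
  · have hm : Odd m := Nat.odd_iff.2 (Nat.two_dvd_ne_zero.1 hm2)
    haveI := hnor.map e.toMonoidHom e.surjective
    have htop := dihedral_normal hm (M := (H.subgroupOf N).map e.toMonoidHom) fun hc =>
      hH' ⟨⟨fun a b => Subtype.ext (e.injective (by
        simpa using mem_comm hc (a := e a) (b := e b) ⟨a, a.2, rfl⟩ ⟨b, b.2, rfl⟩))⟩⟩
    intro z hz
    obtain ⟨w, hw, he⟩ : e ⟨z, hz⟩ ∈ (H.subgroupOf N).map e.toMonoidHom := htop ▸ mem_top _
    have := e.injective he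
    rw [this] at hw
    exact hw
  · exfalso
    refine hodd ?_
    rcases h with ⟨⟨e⟩⟩ | ⟨⟨e⟩⟩ | ⟨⟨e⟩⟩ <;> rw [Nat.card_congr e.toEquiv]
    · rw [nat_card_alternatingGroup, Nat.card_fin]; decide
    · rw [Nat.card_perm, Nat.card_fin]; decide
    · rw [nat_card_alternatingGroup, Nat.card_fin]; decide
  · omega
  · rcases h with ⟨⟨e⟩⟩ | ⟨h2, -⟩
    swap
    · exact absurd rfl h2
    obtain ⟨i, -, hi⟩ : ∃ i ≤ n, Nat.card R = 2 ^ i :=
      (Nat.dvd_prime_pow Nat.prime_two).1 (by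
        rw [← hF, ← hR]
        exact dvd_pow_self _ (by
          rintro rfl
          rw [pow_zero, hF] at hR
          exact absurd hR.symm (Nat.one_lt_two_pow (by omega)).ne'))
    have hd : 2 ^ i - 1 ∣ 2 ^ n - 1 := by
      rw [← hF, ← hR, hi]
      simpa using Nat.sub_dvd_pow_sub_pow (2 ^ i) 1 m
    have hi1 : 1 < 2 ^ i := hi ▸ Finite.one_lt_card
    have hN6 := PSL2.card_psl_mul (F := R)
    rw [← Nat.card_congr e.toEquiv, hi] at hN6
    rcases (Nat.dvd_prime hl).1 hd with h1 | h1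
    · -- a group of order six
      rw [show (2 : ℕ) ^ i = 2 by omega] at hN6
      norm_num at hN6
      obtain ⟨k, hk⟩ := (H.subgroupOf N).card_subgroup_dvd_card
      rw [hN6] at hk
      have hdv : Nat.card (H.subgroupOf N) ∈ Nat.divisors 6 := Nat.mem_divisors.2 ⟨⟨k, hk⟩, by norm_num⟩
      rw [show Nat.divisors 6 = {1, 2, 3, 6} by decide] at hdv
      simp only [Finset.mem_insert, Finset.mem_singleton] at hdv
      have cyc : ∀ p : ℕ, p.Prime → Nat.card (H.subgroupOf N) = p → False := fun p hp h => hH' (by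
        haveI := Fact.mk hp
        haveI : IsCyclic (H.subgroupOf N) := isCyclic_of_prime_card h
        exact IsCyclic.isMulCommutative)
      rcases hdv with h | h | h | h
      · refine absurd ?_ hH'
        haveI : Subsingleton (H.subgroupOf N) := (Nat.card_eq_one_iff_unique.1 h).1
        exact ⟨⟨fun a b => Subsingleton.elim _ _⟩⟩
      · exact (cyc 2 Nat.prime_two h).elim
      · exact (cyc 3 Nat.prime_three h).elim
      · have htop : H.subgroupOf N = ⊤ := Subgroup.eq_top_of_card_eq _ (h.trans hN6.symm)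
        exact subgroupOf_eq_top.1 htop
    · have hR' : 2 ^ i = 2 ^ n := by omega
      have hG := PSL2.card_psl_mul (F := F)
      rw [hF] at hG
      rw [hR', ← hG] at hN6
      have hg : 0 < Nat.gcd 2 (2 ^ n - 1) := Nat.gcd_pos_of_pos_left _ two_pos
      have htop : N = ⊤ := Subgroup.eq_top_of_card_eq _ (Nat.eq_of_mul_eq_mul_left hg hN6)
      haveI : H.Normal := normalizer_eq_top_iff.1 htop
      rcases (inferInstance : H.Normal).eq_bot_or_eq_top with e' | e'
      · exact absurd (by subst e'; exact ⟨⟨fun a b => Subsingleton.elim _ _⟩⟩) hH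
      · rw [e']; exact le_top

theorem prime_of_sn {n : ℕ} (hn : 2 ≤ n) (hF : Nat.card F = 2 ^ n) (h : SN (PSL2 F)) :
    (2 ^ n - 1).Prime := by
  obtain ⟨ψ, hsurj, -, hcent, e, he, he1⟩ := borel_facts hn hF (pinf : Pt F)
  let B := stabilizer (PSL2 F) (pinf : Pt F)
  have h3 : 3 ≤ 2 ^ n - 1 := by
    have : 2 ^ 2 ≤ 2 ^ n := Nat.pow_le_pow_right two_pos hn
    omega
  obtain ⟨r, hr, hrd⟩ := Nat.exists_prime_and_dvd (n := 2 ^ n - 1) (by omega)
  haveI := Fact.mk hr
  obtain ⟨u, hu⟩ := exists_prime_orderOf_dvd_card' (G := Fˣ) r (by rw [Nat.card_units, hF]; exact hrd)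
  set D := (zpowers u).comap ψ with hD
  obtain ⟨y, hy⟩ := hsurj u
  have hDna : ¬ IsMulCommutative (D.map B.subtype) := fun hc => by
    have hye : Commute y e := Subtype.ext (mem_comm hc (a := (y : PSL2 F)) (b := (e : PSL2 F))
      ⟨y, by rw [hD, SetLike.mem_coe, mem_comap, hy]; exact mem_zpowers u, rfl⟩
      ⟨e, by rw [hD, SetLike.mem_coe, mem_comap, he]; exact one_mem _, rfl⟩)
    have h1 := hcent e y he he1 hye
    rw [hy] at h1
    rw [h1, orderOf_one] at hu
    exact hr.ne_one hu.symm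
  have hall : ∀ w : B, w ∈ D := by
    intro w
    obtain ⟨v, hv, hvw⟩ := h.le_of_normalizes hDna (g := (w : PSL2 F))
      (le_normalizer_map B.subtype ⟨w, (normalizer_eq_top D ▸ mem_top w :), rfl⟩)
    exact (Subtype.ext hvw : v = w) ▸ hv
  have htop : zpowers u = ⊤ := eq_top_iff.2 fun v _ => by
    obtain ⟨w, rfl⟩ := hsurj v
    exact hall w
  have hc := Nat.card_zpowers u
  rw [htop, card_top, Nat.card_units, hF, hu] at hc
  exact hc ▸ hr

end Cfsg.Agent.SelfNormNonab
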